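import Groth.Agent.Lib.Adj27.Ring
import Groth.Agent.Lib.OmAff9.Basic
import Groth.Agent.Lib.FundIso27.Frame
import Groth.Agent.Lib.Euler.LocFree
import Groth.Agent.Lib.OmegaSheaf.Basic
import Mathlib.AlgebraicGeometry.Morphisms.Smooth

/-!
# Charts adapted to a closed immersion of smooth schemes
-/

set_option autoImplicit false
set_option maxHeartbeats 1600000
set_option linter.style.haveILetI false
set_option backward.isDefEq.respectTransparency false

universe u

open CategoryTheory CategoryTheory.Limits AlgebraicGeometry Opposite TopologicalSpace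
open GrothLib.InvExt (mres fres)
open GrothLib.FinCov (IsFrame)

noncomputable section

namespace GrothLib.Adj27

section Frame

variable {X : Scheme.{u}} (F : X.Modules) [F.IsQuasicoherent]

theorem isFrame_of_affine {V : X.Opens} (hV : IsAffineOpen V) {n : ℕ} (e : Fin n → Γ(F, V))
    (hb : Function.Bijective (Fintype.linearCombination Γ(X, V) e)) : IsFrame F V e := by
  classical
  refine Euler.isFrame_of_stalk_basis fun y hy => ?_
  letI := X.presheaf.algebra_section_stalk ⟨y, hy⟩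
  haveI := FlatFP.isLocalization_stalk_primeAt hV hy
  letI : Module Γ(X, V) (F.presheaf.stalk y) := Module.compHom _ (X.presheaf.germ V y hy).hom
  haveI : IsScalarTower Γ(X, V) (X.presheaf.stalk y) (F.presheaf.stalk y) :=
    IsScalarTower.of_algebraMap_smul fun _ _ => rfl
  obtain ⟨φ, hφ, hφ'⟩ := FlatFP.isLocalizedModule_germ F hV hy
  let b : Module.Basis (Fin n) Γ(X, V) Γ(F, V) := Module.Basis.ofEquivFun (LinearEquiv.ofBijective _ hb).symm
  let b' := b.ofIsLocalizedModule (X.presheaf.stalk y) (WeakAss.primeAt y hy).primeCompl φ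
  have hb' : ∀ i, b' i = F.presheaf.germ V y hy (e i) := fun i => by
    rw [Module.Basis.ofIsLocalizedModule_apply, hφ', Module.Basis.coe_ofEquivFun]
    congr 1
    show (LinearEquiv.ofBijective _ hb).symm.symm (Pi.single i 1) = e i
    rw [LinearEquiv.symm_symm, LinearEquiv.ofBijective_apply, Fintype.linearCombination_apply_single, one_smul]
  have : (fun c : Fin n → X.presheaf.stalk y => ∑ i, c i • F.presheaf.germ V y hy (e i)) = b'.equivFun.symm := by
    funext c
    rw [Module.Basis.equivFun_symm_apply]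
    exact Finset.sum_congr rfl fun i _ => by rw [hb']
  rw [this]
  exact b'.equivFun.symm.bijective

end Frame

section Diff

variable {X S : Scheme.{u}} (f : X ⟶ S) [QuasiSeparated f]

/-- The differential. -/
abbrev dd (U : X.Opens) (s : Γ(X, U)) : Γ(Omega.sheaf f, U) := OmegaSh.dSect f U s

theorem mres_dd {U V : X.Opens} (h : V ≤ U) (s : Γ(X, U)) : mres (Omega.sheaf f) h (dd f U s) = dd f V (fres X h s) :=
  (OmegaSh.dSect_map f h s).symm

variable {U : X.Opens} (hU : IsAffineOpen U) {W : S.Opens} (hW : IsAffineOpen W) (h : U ≤ f ⁻¹ᵁ W)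

theorem bijective_coords_iff [Algebra Γ(S, W) Γ(X, U)] (halg : algebraMap Γ(S, W) Γ(X, U) = (f.appLE W U h).hom)
    (hb : Function.Bijective (OmAff.toSect f W U h)) {n : ℕ} (s : Fin n → Γ(X, U)) :
    Function.Bijective (Fintype.linearCombination Γ(X, U) (fun i => KaehlerDifferential.D Γ(S, W) Γ(X, U) (s i))) ↔
      Function.Bijective (Fintype.linearCombination Γ(X, U) (fun i => dd f U (s i))) := by
  obtain rfl : ‹Algebra Γ(S, W) Γ(X, U)› = (f.appLE W U h).hom.toAlgebra := Algebra.algebra_ext _ _ fun r =>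
    RingHom.congr_fun halg r
  have : (⇑(Fintype.linearCombination Γ(X, U) (fun i => dd f U (s i))) : (Fin n → Γ(X, U)) → Γ(Omega.sheaf f, U)) =
      (fun z => OmAff.toSect f W U h z) ∘
      ⇑(Fintype.linearCombination Γ(X, U)
        (fun i => (CommRingCat.KaehlerDifferential.d (s i) : CommRingCat.KaehlerDifferential (f.appLE W U h)))) := by
    funext a
    rw [Function.comp_apply, Fintype.linearCombination_apply, Fintype.linearCombination_apply, map_sum]
    refine Finset.sum_congr rfl fun i _ => ?_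
    exact (((OmAff.toSect f W U h).hom.map_smul (a i) _).trans
      (congrArg (a i • ·) (OmAff.toSect_d f W U h (s i)))).symm
  rw [this]
  exact (Function.Bijective.of_comp_iff' hb _).symm

include hU hW h in
theorem isFrame_dd {n : ℕ} (s : Fin n → Γ(X, U))
    (hs : letI := (f.appLE W U h).hom.toAlgebra
      Function.Bijective (Fintype.linearCombination Γ(X, U) (fun i => KaehlerDifferential.D Γ(S, W) Γ(X, U) (s i)))) :
    IsFrame (Omega.sheaf f) U (fun i => dd f U (s i)) := by
  haveI := OmegaSheaf.isQuasicoherent_sheaf f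
  letI := (f.appLE W U h).hom.toAlgebra
  exact isFrame_of_affine _ hU _ ((bijective_coords_iff f h rfl (OmAff9.bijective_toSect f hU hW h) s).1 hs)

include hU hW h in
theorem bijective_coords_of_isFrame {n : ℕ} (s : Fin n → Γ(X, U))
    (hs : IsFrame (Omega.sheaf f) U (fun i => dd f U (s i))) :
    letI := (f.appLE W U h).hom.toAlgebra
    Function.Bijective (Fintype.linearCombination Γ(X, U) (fun i => KaehlerDifferential.D Γ(S, W) Γ(X, U) (s i))) := by
  letI := (f.appLE W U h).hom.toAlgebra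
  refine (bijective_coords_iff f h rfl (OmAff9.bijective_toSect f hU hW h) s).2 ?_
  have := hs U le_rfl
  convert this using 1
  funext a
  rw [Fintype.linearCombination_apply]
  exact Finset.sum_congr rfl fun i _ => congrArg (a i • ·) (InvExt.mres_self (Omega.sheaf f) _).symm

end Diff

variable {S X Y : Scheme.{u}} (p : X ⟶ S) (q : Y ⟶ S) (i : Y ⟶ X) [IsClosedImmersion i]
  [QuasiSeparated p] [QuasiSeparated q]

/-- A chart adapted to a closed immersion of smooth schemes. -/
structure IsChart {c m : ℕ} (V : X.Opens) (f : Fin c → Γ(X, V)) (g : Fin m → Γ(X, V)) : Prop where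
  aff : IsAffineOpen V
  fr : FundIso27.IsFr i f
  frameX : IsFrame (Omega.sheaf p) V (fun k => dd p V (Fin.append f g k))
  frameY : IsFrame (Omega.sheaf q) (i ⁻¹ᵁ V) (fun j => dd q (i ⁻¹ᵁ V) (i.app V (g j)))

theorem IsChart.restrict {c m : ℕ} {V : X.Opens} {f : Fin c → Γ(X, V)} {g : Fin m → Γ(X, V)}
    (h : IsChart p q i V f g) {W : X.Opens} (hW : IsAffineOpen W) (hWV : W ≤ V) :
    IsChart p q i W (fres X hWV ∘ f) (fres X hWV ∘ g) where
  aff := hW
  fr := h.fr.restrict h.aff hW hWV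
  frameX := by
    have := TensorGen.isFrame_restrict h.frameX hWV
    convert this using 1
    funext k
    rw [mres_dd]
    congr 1
    exact Fin.addCases (motive := fun k => Fin.append (fres X hWV ∘ f) (fres X hWV ∘ g) k = fres X hWV (Fin.append f g k))
      (fun j => by simp) (fun j => by simp) k
  frameY := by
    have := TensorGen.isFrame_restrict h.frameY (i.preimage_mono hWV)
    convert this using 1
    funext k
    rw [mres_dd]
    congr 1
    exact ConcreteCategory.congr_hom (i.naturality (homOfLE hWV).op) (g k)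

variable (n m : ℕ) [SmoothOfRelativeDimension n p] [SmoothOfRelativeDimension m q] (hi : i ≫ p = q)

include hi in
/-- Charts exist around every point, and the codimension is `n - m`. -/
theorem exists_isChart (z : Y) (O : X.Opens) (hz : i z ∈ O) :
    ∃ (c : ℕ) (V : X.Opens) (f : Fin c → Γ(X, V)) (g : Fin m → Γ(X, V)),
      n = c + m ∧ i z ∈ V ∧ V ≤ O ∧ IsChart p q i V f g := by
  classical
  haveI : Smooth q := SmoothOfRelativeDimension.smooth m q
  obtain ⟨U₂, hU₂, T₂, hT₂, hzT₂, e₂, h₂⟩ :=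
    SmoothOfRelativeDimension.exists_isStandardSmoothOfRelativeDimension (n := m) (f := q) z
  obtain ⟨U₁, hU₁, V₁, hV₁, hzV₁, e₁, h₁⟩ :=
    SmoothOfRelativeDimension.exists_isStandardSmoothOfRelativeDimension (n := n) (f := p) (i z)
  have hcoord : ∃ gT : Fin m → Γ(Y, T₂), IsFrame (Omega.sheaf q) T₂ (fun j => dd q T₂ (gT j)) := by
    letI := (q.appLE U₂ T₂ e₂).hom.toAlgebra
    haveI : Algebra.IsStandardSmoothOfRelativeDimension m Γ(S, U₂) Γ(Y, T₂) := h₂
    obtain ⟨gT, hgT⟩ := exists_bijective_coords m Γ(S, U₂) Γ(Y, T₂)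
    exact ⟨gT, isFrame_dd q hT₂ hU₂ e₂ gT hgT⟩
  obtain ⟨gT, hgT⟩ := hcoord
  obtain ⟨O', hO', hO'T⟩ := i.isClosedEmbedding.isInducing.isOpen_iff.1 T₂.2
  have hzO' : i z ∈ O' := by
    have : z ∈ i ⁻¹' O' := by rw [hO'T]; exact hzT₂
    exact this
  have hpz : p (i z) = q z := by rw [← hi]; rfl
  obtain ⟨U, V', -, hV'O, hzV', e', h'⟩ := exists_affineOpens_le_appLE_of_appLE (f := p)
    (RingHom.isStandardSmoothOfRelativeDimension_stableUnderCompositionWithLocalizationAway n).right
    (RingHom.isStandardSmoothOfRelativeDimension_localizationPreserves n).away (i z)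
    (U₁ ⊓ U₂) ⟨U₁, hU₁⟩ (O ⊓ ⟨O', hO'⟩) ⟨V₁, hV₁⟩ ⟨hz, hzO'⟩ hzV₁ e₁ h₁ ⟨e₁ hzV₁, by rw [hpz]; exact e₂ hzT₂⟩
  obtain ⟨V', hV'⟩ := V'
  obtain ⟨U, hU⟩ := U
  have hle : i ⁻¹ᵁ V' ≤ T₂ := fun y hy => by
    have h1 : y ∈ i ⁻¹' O' := (hV'O hy).2
    rwa [hO'T] at h1
  have hYU : i ⁻¹ᵁ V' ≤ q ⁻¹ᵁ U := fun y hy => by
    rw [← hi]; exact e' hy
  choose g hg using fun j => i.app_surjective V' hV' (fres Y hle (gT j))
  letI algB : Algebra Γ(S, U) Γ(X, V') := (p.appLE U V' e').hom.toAlgebra
  letI algC : Algebra Γ(S, U) Γ(Y, i ⁻¹ᵁ V') := (q.appLE U (i ⁻¹ᵁ V') hYU).hom.toAlgebra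
  letI algτ : Algebra Γ(X, V') Γ(Y, i ⁻¹ᵁ V') := (i.app V').hom.toAlgebra
  haveI : IsScalarTower Γ(S, U) Γ(X, V') Γ(Y, i ⁻¹ᵁ V') := IsScalarTower.of_algebraMap_eq' (by
    show (q.appLE U (i ⁻¹ᵁ V') hYU).hom = (p.appLE U V' e' ≫ i.app V').hom
    subst hi
    rw [Scheme.Hom.app_eq_appLE, Scheme.Hom.appLE_comp_appLE])
  haveI : Algebra.IsStandardSmoothOfRelativeDimension n Γ(S, U) Γ(X, V') := h'
  haveI hsmC : Algebra.Smooth Γ(S, U) Γ(Y, i ⁻¹ᵁ V') := q.smooth_appLE hU (hV'.preimage i) hYU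
  let Q := (hV'.primeIdealOf ⟨i z, hzV'⟩).asIdeal
  have hgC : Function.Bijective (Fintype.linearCombination Γ(Y, i ⁻¹ᵁ V')
      (fun j => KaehlerDifferential.D Γ(S, U) Γ(Y, i ⁻¹ᵁ V') (algebraMap Γ(X, V') Γ(Y, i ⁻¹ᵁ V') (g j)))) := by
    refine bijective_coords_of_isFrame q (hV'.preimage i) hU hYU _ ?_
    have := TensorGen.isFrame_restrict hgT hle
    convert this using 1
    funext j
    rw [mres_dd]
    exact congrArg _ (hg j)
  have hQ : RingHom.ker (algebraMap Γ(X, V') Γ(Y, i ⁻¹ᵁ V')) ≤ Q := fun a ha => by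
    by_contra hh
    have h1 : hV'.primeIdealOf ⟨i z, hzV'⟩ ∈ PrimeSpectrum.basicOpen a := hh
    rw [← hV'.fromSpec_preimage_basicOpen] at h1
    have h2 : i z ∈ X.basicOpen a := by
      have := h1
      rwa [Scheme.Hom.mem_preimage, hV'.fromSpec_primeIdealOf] at this
    have h3 : z ∈ i ⁻¹ᵁ X.basicOpen a := h2
    rw [Scheme.preimage_basicOpen, show i.app V' a = 0 from ha, Scheme.basicOpen_zero] at h3
    exact h3.elim
  obtain ⟨c, f, b, hn, hbQ, hfker, hS⟩ := exists_chart (n := n) (A := Γ(S, U))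
    (i.app_surjective V' hV') g hgC Q hQ
  have hzb : i z ∈ X.basicOpen b := by
    have h1 : hV'.primeIdealOf ⟨i z, hzV'⟩ ∈ PrimeSpectrum.basicOpen b := hbQ
    rw [← hV'.fromSpec_preimage_basicOpen] at h1
    rwa [Scheme.Hom.mem_preimage, hV'.fromSpec_primeIdealOf] at h1
  have hbV : X.basicOpen b ≤ V' := X.basicOpen_le b
  have eW : X.basicOpen b ≤ p ⁻¹ᵁ U := hbV.trans e'
  letI : Algebra Γ(X, V') Γ(X, X.basicOpen b) := (X.presheaf.map (homOfLE hbV).op).hom.toAlgebra
  letI : Algebra Γ(S, U) Γ(X, X.basicOpen b) := (p.appLE U (X.basicOpen b) eW).hom.toAlgebra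
  haveI : IsScalarTower Γ(S, U) Γ(X, V') Γ(X, X.basicOpen b) := IsScalarTower.of_algebraMap_eq' (by
    show (p.appLE U (X.basicOpen b) eW).hom = (p.appLE U V' e' ≫ X.presheaf.map (homOfLE hbV).op).hom
    rw [Scheme.Hom.appLE_map])
  haveI : IsLocalization.Away b Γ(X, X.basicOpen b) := hV'.isLocalization_basicOpen b
  obtain ⟨hreg, hbij, hker⟩ := hS Γ(X, X.basicOpen b)
  refine ⟨c, X.basicOpen b, fres X hbV ∘ f, fres X hbV ∘ g, hn, hzb, hbV.trans (hV'O.trans inf_le_left),
    hV'.basicOpen b, ⟨hreg, ?_⟩, ?_, ?_⟩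
  · refine le_antisymm ?_ ?_
    · rw [← i.ker_apply ⟨_, hV'.basicOpen b⟩, ← i.ker.map_ideal (U := ⟨_, hV'.basicOpen b⟩) (V := ⟨V', hV'⟩) hbV,
        i.ker_apply]
      exact hker
    · rw [Ideal.span_le]
      rintro _ ⟨j, rfl⟩
      show i.app (X.basicOpen b) (fres X hbV (f j)) = 0
      refine (ConcreteCategory.congr_hom (i.naturality (homOfLE hbV).op) (f j)).trans ?_
      exact (congrArg (Y.presheaf.map _) (hfker j)).trans (map_zero _)
  · refine isFrame_dd p (hV'.basicOpen b) hU eW _ ?_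
    convert hbij using 4
    exact congrArg _ <| Fin.addCases (motive := fun k => Fin.append (fres X hbV ∘ f) (fres X hbV ∘ g) k =
      algebraMap Γ(X, V') Γ(X, X.basicOpen b) (Fin.append f g k)) (fun j => by simp; rfl) (fun j => by simp; rfl) _
  · have := TensorGen.isFrame_restrict hgT ((i.preimage_mono hbV).trans hle)
    convert this using 1
    funext j
    rw [mres_dd]
    refine congrArg _ ?_
    refine (ConcreteCategory.congr_hom (i.naturality (homOfLE hbV).op) (g j)).trans ?_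
    exact (congrArg (Y.presheaf.map _) (hg j)).trans (InvExt.fres_fres hle (i.preimage_mono hbV) (gT j))

end GrothLib.Adj27
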