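import Groth.Agent.Lib.Adj27.Chart
import Groth.Agent.Lib.VA.UnitGen
import Groth.Agent.S5005
import Groth.Agent.S9370
import Mathlib.LinearAlgebra.Matrix.SchurComplement

/-!
# The adjunction formula for a closed immersion of smooth schemes
-/

set_option autoImplicit false
set_option maxHeartbeats 1600000
set_option linter.style.haveILetI false
set_option backward.isDefEq.respectTransparency false

universe u

open CategoryTheory CategoryTheory.Limits AlgebraicGeometry Opposite TopologicalSpace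
open GrothLib.InvExt (mres fres IsGen)
open GrothLib.FinCov (IsFrame)
open GrothLib.VA (tm)

noncomputable section

namespace GrothLib.Adj27

section Wedge

variable {X : Scheme.{u}} {E DE : X.Modules} {n : ℕ}

/-- The wedge of a tuple over an affine open. -/
def wg (φ : ∀ U : X.affineOpens, Γ(DE, U.1) ≃ₗ[Γ(X, U.1)] ↥(⋀[Γ(X, U.1)]^n Γ(E, U.1))) (U : X.affineOpens)
    (e : Fin n → Γ(E, U.1)) : Γ(DE, U.1) :=
  (φ U).symm (exteriorPower.ιMulti _ n e)

variable (φ : ∀ U : X.affineOpens, Γ(DE, U.1) ≃ₗ[Γ(X, U.1)] ↥(⋀[Γ(X, U.1)]^n Γ(E, U.1)))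

theorem wg_change (U : X.affineOpens) {e' : Fin n → Γ(E, U.1)} (he' : IsFrame E U.1 e') (e : Fin n → Γ(E, U.1)) :
    wg φ U e = ((he'.basis U.1 le_rfl).toMatrix e).det • wg φ U e' := by
  unfold wg
  rw [TensorGen.ιMulti_eq_det_smul (he'.basis U.1 le_rfl) e, map_smul, Module.Basis.det_apply]
  congr 3
  funext j
  exact (FinCov.IsFrame.basis_apply he' U.1 le_rfl j).trans (InvExt.mres_self E (e' j))

end Wedge

variable {S X Y : Scheme.{u}} (p : X ⟶ S) (q : Y ⟶ S) (i : Y ⟶ X) [IsClosedImmersion i]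
  [QuasiSeparated p] [QuasiSeparated q] {c m : ℕ} {ωX : X.Modules} {ωY L : Y.Modules}
  (φX : ∀ U : X.affineOpens, Γ(ωX, U.1) ≃ₗ[Γ(X, U.1)] ↥(⋀[Γ(X, U.1)]^(c + m) Γ(Omega.sheaf p, U.1)))
  (φY : ∀ U : Y.affineOpens, Γ(ωY, U.1) ≃ₗ[Γ(Y, U.1)] ↥(⋀[Γ(Y, U.1)]^m Γ(Omega.sheaf q, U.1)))
  (φL : ∀ U : Y.affineOpens,
    (L.val.obj (op U.1)) ≃ₗ[Γ(Y, U.1)] ↥(⋀[Γ(Y, U.1)]^c ((Omega.conormal i).val.obj (op U.1))))
  (hφX : ∀ (U V : X.affineOpens) (h : V.1 ≤ U.1) (e : Fin (c + m) → Γ(Omega.sheaf p, U.1)),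
    mres ωX h ((φX U).symm (exteriorPower.ιMulti _ _ e)) =
      (φX V).symm (exteriorPower.ιMulti _ _ fun j => mres (Omega.sheaf p) h (e j)))
  (hφY : ∀ (U V : Y.affineOpens) (h : V.1 ≤ U.1) (e : Fin m → Γ(Omega.sheaf q, U.1)),
    mres ωY h ((φY U).symm (exteriorPower.ιMulti _ _ e)) =
      (φY V).symm (exteriorPower.ιMulti _ _ fun j => mres (Omega.sheaf q) h (e j)))
  (hφL : ∀ (U V : Y.affineOpens) (h : V.1 ≤ U.1) (e : Fin c → (Omega.conormal i).val.obj (op U.1)),
    L.val.map (homOfLE h).op ((φL U).symm (exteriorPower.ιMulti _ c e)) =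
      (φL V).symm (exteriorPower.ιMulti _ c (fun j => (Omega.conormal i).val.map (homOfLE h).op (e j))))

variable {V : X.Opens} {f : Fin c → Γ(X, V)} {g : Fin m → Γ(X, V)}

/-- The generator downstairs. -/
def genL (h : IsChart p q i V f g) : Γ(CohB1.tensorMod ωY L, i ⁻¹ᵁ V) :=
  tm (wg φY ⟨i ⁻¹ᵁ V, h.aff.preimage i⟩ fun j => dd q (i ⁻¹ᵁ V) (i.app V (g j)))
    (FundIso27.lgen φL h.aff h.fr)

/-- The generator from upstairs. -/
def genR (h : IsChart p q i V f g) : Γ((Scheme.Modules.pullback i).obj ωX, i ⁻¹ᵁ V) :=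
  QCoh.pullSec i ωX (le_refl _) (wg φX ⟨V, h.aff⟩ fun k => dd p V (Fin.append f g k))

include hφY hφL in
theorem isGen_genL (h : IsChart p q i V f g) : IsGen (CohB1.tensorMod ωY L) (i ⁻¹ᵁ V) (genL p q i φY φL h) :=
  VA.isGen_tm (TensorGen.isGen_wedge hφY (U := ⟨i ⁻¹ᵁ V, h.aff.preimage i⟩) h.frameY)
    (FundIso27.isGen_lgen φL hφL h.aff h.fr)

include hφX in
theorem isGen_genR (hinv : PicF.IsInvertible ωX) (h : IsChart p q i V f g) :
    IsGen ((Scheme.Modules.pullback i).obj ωX) (i ⁻¹ᵁ V) (genR p q i φX h) := by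
  rw [show genR p q i φX h = ((Scheme.Modules.pullbackPushforwardAdjunction i).unit.app ωX).app V
    (wg φX ⟨V, h.aff⟩ fun k => dd p V (Fin.append f g k)) from InvExt.mres_self _ _]
  exact VA.isGen_unit i hinv (TensorGen.isGen_wedge hφX (U := ⟨V, h.aff⟩) h.frameX)

variable {W : X.Opens} (hW : IsAffineOpen W) (hWV : W ≤ V)

include hφY hφL in
theorem mres_genL (h : IsChart p q i V f g) :
    mres _ (i.preimage_mono hWV) (genL p q i φY φL h) = genL p q i φY φL (h.restrict p q i hW hWV) := by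
  unfold genL
  rw [VA.mres_tm, FundIso27.mres_lgen φL hφL h.aff h.fr hW hWV]
  congr 1
  refine (hφY ⟨i ⁻¹ᵁ V, h.aff.preimage i⟩ ⟨i ⁻¹ᵁ W, hW.preimage i⟩ (i.preimage_mono hWV) _).trans ?_
  unfold wg
  congr 2
  funext j
  rw [mres_dd]
  exact congrArg _ (ConcreteCategory.congr_hom (i.naturality (homOfLE hWV).op) (g j)).symm

include hφX in
theorem mres_genR (h : IsChart p q i V f g) :
    mres _ (i.preimage_mono hWV) (genR p q i φX h) = genR p q i φX (h.restrict p q i hW hWV) := by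
  refine (FundIso27.pullSec_mres i ωX le_rfl le_rfl hWV (i.preimage_mono hWV) _).trans ?_
  refine congrArg _ ?_
  refine (hφX ⟨V, h.aff⟩ ⟨W, hW⟩ hWV _).trans ?_
  unfold wg
  congr 2
  funext k
  rw [mres_dd]
  congr 1
  exact (Fin.addCases (motive := fun k => Fin.append (fres X hWV ∘ f) (fres X hWV ∘ g) k = fres X hWV (Fin.append f g k))
    (fun j => by simp) (fun j => by simp) k).symm

variable {f' : Fin c → Γ(X, V)} {g' : Fin m → Γ(X, V)} (hi : i ≫ p = q)

include hi in
theorem change (h : IsChart p q i V f g) (h' : IsChart p q i V f' g') :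
    ∃ l : Γ(Y, i ⁻¹ᵁ V), genL p q i φY φL h = l • genL p q i φY φL h' ∧
      genR p q i φX h = l • genR p q i φX h' := by
  classical
  obtain ⟨C, hC, -⟩ := Groth.Agent.S9370.result p q i (𝟙 S) (by rw [Category.comp_id, hi]) (Omega.sheaf p)
    (OmegaSh.dOmega p) (Groth.Agent.S5005.result p) (Omega.sheaf q) (OmegaSh.dOmega q) (Groth.Agent.S5005.result q)
  let π := (i.app V).hom
  let D : Γ(X, V) →+ Γ(Omega.sheaf p, V) := AddMonoidHom.mk' (dd p V) (OmegaSh.dSect_add p V)
  let DY : Γ(Y, i ⁻¹ᵁ V) →+ Γ(Omega.sheaf q, i ⁻¹ᵁ V) :=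
    AddMonoidHom.mk' (dd q (i ⁻¹ᵁ V)) (OmegaSh.dSect_add q (i ⁻¹ᵁ V))
  let bX := h'.frameX.basis V le_rfl
  let bY := h'.frameY.basis (i ⁻¹ᵁ V) le_rfl
  have hbX : ∀ k, bX k = D (Fin.append f' g' k) := fun k =>
    (FinCov.IsFrame.basis_apply h'.frameX V le_rfl k).trans (InvExt.mres_self _ _)
  have hbY : ∀ k, bY k = DY (π (g' k)) := fun k =>
    (FinCov.IsFrame.basis_apply h'.frameY _ le_rfl k).trans (InvExt.mres_self _ _)
  have hπf : ∀ j, π (f j) = 0 := fun j =>
    RingHom.mem_ker.1 (h.fr.ker ▸ Ideal.subset_span ⟨j, rfl⟩)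
  have hπf' : ∀ j, π (f' j) = 0 := fun j =>
    RingHom.mem_ker.1 (h'.fr.ker ▸ Ideal.subset_span ⟨j, rfl⟩)
  obtain ⟨μ, hμ⟩ := FundIso27.exists_change h'.fr h.fr
  let A : Matrix (Fin c) (Fin c) Γ(Y, i ⁻¹ᵁ V) := (LinearMap.toMatrix' μ).map π
  let β : Matrix (Fin m) (Fin m) Γ(Y, i ⁻¹ᵁ V) := bY.toMatrix fun j => DY (π (g j))
  let M : Matrix (Fin (c + m)) (Fin (c + m)) Γ(X, V) := bX.toMatrix fun k => D (Fin.append f g k)
  have hf : ∀ l, f l = ∑ j, LinearMap.toMatrix' μ j l * f' j := fun l => by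
    have := LinearMap.congr_fun hμ (Pi.basisFun Γ(X, V) (Fin c) l)
    rw [LinearMap.comp_apply, FundIso27.pv_single, FundIso27.pv_apply] at this
    rw [← this]
    refine Finset.sum_congr rfl fun j _ => ?_
    rw [LinearMap.toMatrix'_apply, Pi.basisFun_apply]
  have hleft : ∀ (k : Fin (c + m)) (l : Fin c), π (M k (Fin.castAdd m l)) =
      Fin.addCases (fun j => A j l) (fun _ => (0 : Γ(Y, i ⁻¹ᵁ V))) k := by
    intro k l
    have hD : D (f l) = ∑ j, (LinearMap.toMatrix' μ j l • bX (Fin.castAdd m j) + f' j • D (LinearMap.toMatrix' μ j l)) := by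
      rw [hf l, map_sum]
      refine Finset.sum_congr rfl fun j _ => ?_
      rw [hbX, Fin.append_left]
      exact OmegaSh.dSect_mul p V _ _
    show π (bX.repr (D (Fin.append f g (Fin.castAdd m l))) k) = _
    rw [Fin.append_left, hD]
    simp only [map_sum, map_add, map_smul, Finsupp.finset_sum_apply, Finsupp.add_apply, Finsupp.smul_apply,
      Module.Basis.repr_self, smul_eq_mul, map_mul, hπf', zero_mul, add_zero, Finsupp.single_apply]
    refine Fin.addCases (fun j₀ => ?_) (fun k₀ => ?_) k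
    · rw [Fin.addCases_left, Finset.sum_eq_single j₀]
      · rw [if_pos rfl, map_one, mul_one]; rfl
      · intro j _ hj
        rw [if_neg fun e => hj (Fin.castAdd_injective _ _ e), map_zero, mul_zero]
      · exact fun e => absurd (Finset.mem_univ _) e
    · rw [Fin.addCases_right]
      refine Finset.sum_eq_zero fun j _ => ?_
      rw [if_neg fun e => ?_, map_zero, mul_zero]
      have := congrArg Fin.val e
      simp only [Fin.val_castAdd, Fin.val_natAdd] at this
      omega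
  let P := QCoh.pullSec i (Omega.sheaf p) (le_refl (i ⁻¹ᵁ V))
  have hCP : ∀ s, C.app (i ⁻¹ᵁ V) (P (D s)) = DY (π s) := fun s => by
    refine Eq.trans ?_ (hC V s)
    exact congrArg (C.app (i ⁻¹ᵁ V)) (InvExt.mres_self _ _)
  have hright : ∀ (k l : Fin m), π (M (Fin.natAdd c k) (Fin.natAdd c l)) = β k l := by
    intro k l
    have he : DY (π (g l)) = ∑ k' : Fin m, π (M (Fin.natAdd c k') (Fin.natAdd c l)) • bY k' := by
      rw [← hCP (g l), show D (g l) = D (Fin.append f g (Fin.natAdd c l)) by rw [Fin.append_right],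
        ← bX.sum_repr (D (Fin.append f g (Fin.natAdd c l))), map_sum, map_sum, Fin.sum_univ_add]
      have hterm : ∀ (a : Γ(X, V)) (k' : Fin (c + m)), C.app (i ⁻¹ᵁ V) (P (a • bX k')) =
          π a • DY (π (Fin.append f' g' k')) := fun a k' => by
        rw [QCoh.pullSec_smul, Scheme.Hom.appLE_eq_app, hbX]
        exact (Scheme.Modules.Hom.app_smul C _ _).trans (congrArg (π a • ·) (hCP _))
      rw [Finset.sum_eq_zero (fun j _ => by rw [hterm, Fin.append_left, hπf', map_zero, smul_zero]), zero_add]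
      refine Finset.sum_congr rfl fun k' _ => ?_
      rw [hterm, hbY]
      show _ = π (bX.repr (D (Fin.append f g (Fin.natAdd c l))) (Fin.natAdd c k')) • _
      simp only [Fin.append_right]
    show _ = bY.repr (DY (π (g l))) k
    rw [he, bY.repr_sum_self]
  have hdet : π M.det = A.det * β.det := by
    rw [RingHom.map_det, ← Matrix.det_reindex_self finSumFinEquiv.symm]
    have : Matrix.reindex finSumFinEquiv.symm finSumFinEquiv.symm (π.mapMatrix M) =
        Matrix.fromBlocks A (Matrix.of fun j l => π (M (Fin.castAdd m j) (Fin.natAdd c l))) 0 β := by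
      ext (a | a) (b | b) <;>
        simp only [Matrix.reindex_apply, Equiv.symm_symm, Matrix.submatrix_apply, RingHom.mapMatrix_apply,
          Matrix.map_apply, finSumFinEquiv_apply_left, finSumFinEquiv_apply_right, Matrix.fromBlocks_apply₁₁,
          Matrix.fromBlocks_apply₁₂, Matrix.fromBlocks_apply₂₁, Matrix.fromBlocks_apply₂₂, Matrix.of_apply]
      · rw [hleft, Fin.addCases_left]
      · rw [hleft, Fin.addCases_right]; rfl
      · exact hright a b
    rw [this, Matrix.det_fromBlocks_zero₂₁]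
  refine ⟨A.det * β.det, ?_, ?_⟩
  · unfold genL
    rw [wg_change φY ⟨_, h.aff.preimage i⟩ h'.frameY, FundIso27.lgen_change φL h.aff h'.fr h.fr μ hμ,
      VA.tm_smul_left, VA.tm_smul_right, smul_smul, mul_comm A.det]
    congr 1
    congr 1
    rw [← LinearMap.det_toMatrix', RingHom.map_det]
    rfl
  · unfold genR
    rw [wg_change φX ⟨V, h.aff⟩ h'.frameX, QCoh.pullSec_smul, Scheme.Hom.appLE_eq_app]
    congr 1

section Glue

variable (n : ℕ) [SmoothOfRelativeDimension n p] [SmoothOfRelativeDimension m q]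

include hi in
theorem exists_isChart' (hc : n = c + m) (z : Y) (O : X.Opens) (hz : i z ∈ O) :
    ∃ (W : X.Opens) (f : Fin c → Γ(X, W)) (g : Fin m → Γ(X, W)), i z ∈ W ∧ W ≤ O ∧ IsChart p q i W f g := by
  obtain ⟨c', W, f, g, hn, hzW, hWO, hch⟩ := exists_isChart p q i n m hi z O hz
  obtain rfl : c' = c := by omega
  exact ⟨W, f, g, hzW, hWO, hch⟩

/-- Indices of charts. -/
structure Idx (c m : ℕ) : Type u where
  V : X.Opens
  f : Fin c → Γ(X, V)
  g : Fin m → Γ(X, V)
  h : IsChart p q i V f g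

/-- The open downstairs of an index. -/
abbrev bas (a : Idx p q i c m) : Y.Opens := i ⁻¹ᵁ a.V

include hi in
theorem isBasis_bas (hc : n = c + m) : Opens.IsBasis (Set.range (bas p q i (c := c) (m := m))) := by
  rw [Opens.isBasis_iff_nbhd]
  intro T z hz
  obtain ⟨O, hO, hOT⟩ := i.isClosedEmbedding.isInducing.isOpen_iff.1 T.2
  obtain ⟨W, f, g, hzW, hWO, hch⟩ := exists_isChart' p q i hi n hc z ⟨O, hO⟩ (by
    show z ∈ i ⁻¹' O; rw [hOT]; exact hz)
  refine ⟨_, ⟨⟨W, f, g, hch⟩, rfl⟩, hzW, fun y hy => ?_⟩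
  have : y ∈ i ⁻¹' O := hWO hy
  rwa [hOT] at this

include hi hφX hφY hφL in
theorem nonempty_iso (hc : n = c + m) (hinv : PicF.IsInvertible ωX) :
    Nonempty (CohB1.tensorMod ωY L ≅ (Scheme.Modules.pullback i).obj ωX) := by
  let T := CohB1.tensorMod ωY L
  let R := (Scheme.Modules.pullback i).obj ωX
  let eL : ∀ a : Idx p q i c m, Γ(Y, bas p q i a) ≃ₗ[Γ(Y, bas p q i a)] Γ(T, bas p q i a) := fun a =>
    LinearEquiv.ofBijective (LinearMap.toSpanSingleton _ _ (genL p q i φY φL a.h)) (by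
      have := isGen_genL p q i φY φL hφY hφL a.h (i ⁻¹ᵁ a.V) le_rfl
      simp only [InvExt.mres_self] at this
      exact this)
  let eR : ∀ a : Idx p q i c m, Γ(Y, bas p q i a) ≃ₗ[Γ(Y, bas p q i a)] Γ(R, bas p q i a) := fun a =>
    LinearEquiv.ofBijective (LinearMap.toSpanSingleton _ _ (genR p q i φX a.h)) (by
      have := isGen_genR p q i φX hφX hinv a.h (i ⁻¹ᵁ a.V) le_rfl
      simp only [InvExt.mres_self] at this
      exact this)
  obtain ⟨e, -⟩ := AffHom.exists_iso_basis (M := T) (N := R) (isBasis_bas p q i hi n hc)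
    (fun a => (eL a).symm ≪≫ₗ eR a) (fun a b hba t => by
      obtain ⟨s, rfl⟩ := (eL a).surjective t
      show mres R hba (eR a ((eL a).symm (eL a s))) = eR b ((eL b).symm (mres T hba (eL a s)))
      obtain ⟨s', hs'⟩ := (eL b).surjective (mres T hba (eL a s))
      rw [LinearEquiv.symm_apply_apply, ← hs', LinearEquiv.symm_apply_apply]
      have hex : ∀ z : bas p q i b, ∃ (W : X.Opens) (f₁ : Fin c → Γ(X, W)) (g₁ : Fin m → Γ(X, W)),
          i z.1 ∈ W ∧ W ≤ a.V ⊓ b.V ∧ IsChart p q i W f₁ g₁ := fun z =>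
        exists_isChart' p q i hi n hc z.1 (a.V ⊓ b.V) ⟨hba z.2, z.2⟩
      choose W f₁ g₁ hzW hWle hch using hex
      refine Ample.meq_of_cover R (fun z => i ⁻¹ᵁ W z) (fun z => i.preimage_mono ((hWle z).trans inf_le_right))
        (fun z hz => Opens.mem_iSup.mpr ⟨⟨z, hz⟩, hzW ⟨z, hz⟩⟩) fun z => ?_
      have ha : W z ≤ a.V := (hWle z).trans inf_le_left
      have hb : W z ≤ b.V := (hWle z).trans inf_le_right
      obtain ⟨la, hla, hra⟩ := change p q i φX φY φL hi (a.h.restrict p q i (hch z).aff ha) (hch z)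
      obtain ⟨lb, hlb, hrb⟩ := change p q i φX φY φL hi (b.h.restrict p q i (hch z).aff hb) (hch z)
      have hscal : fres Y (i.preimage_mono ha) s * la = fres Y (i.preimage_mono hb) s' * lb := by
        refine (isGen_genL p q i φY φL hφY hφL (hch z) (i ⁻¹ᵁ W z) le_rfl).1 ?_
        show _ • mres T le_rfl _ = _ • mres T le_rfl _
        rw [InvExt.mres_self, mul_smul, mul_smul, ← hla, ← hlb, ← mres_genL p q i φY φL hφY hφL (hch z).aff ha a.h,
          ← mres_genL p q i φY φL hφY hφL (hch z).aff hb b.h, ← InvExt.mres_smul, ← InvExt.mres_smul]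
        have h2 := congrArg (mres T (i.preimage_mono hb)) hs'
        rw [InvExt.mres_mres] at h2
        exact h2.symm
      show mres R (i.preimage_mono hb) (mres R hba (s • genR p q i φX a.h)) =
        mres R (i.preimage_mono hb) (s' • genR p q i φX b.h)
      rw [InvExt.mres_mres]
      show mres R (i.preimage_mono ha) _ = _
      rw [InvExt.mres_smul, InvExt.mres_smul, mres_genR p q i φX hφX (hch z).aff ha a.h,
        mres_genR p q i φX hφX (hch z).aff hb b.h, hra, hrb, smul_smul, smul_smul, hscal])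
  exact ⟨e⟩

end Glue

include hφX in
theorem isInvertible_omega (n : ℕ) [SmoothOfRelativeDimension n p] (hc : n = c + m) : PicF.IsInvertible ωX := by
  subst hc
  refine InvExt.isInvertible_of_gens fun x => ?_
  obtain ⟨U, hU, T, hT, hxT, e, h⟩ :=
    SmoothOfRelativeDimension.exists_isStandardSmoothOfRelativeDimension (n := c + m) (f := p) x
  letI := (p.appLE U T e).hom.toAlgebra
  haveI : Algebra.IsStandardSmoothOfRelativeDimension (c + m) Γ(S, U) Γ(X, T) := h
  obtain ⟨s, hs⟩ := exists_bijective_coords (c + m) Γ(S, U) Γ(X, T)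
  exact ⟨T, _, hxT, TensorGen.isGen_wedge hφX (U := ⟨T, hT⟩) (isFrame_dd p hT hU e s hs)⟩

end GrothLib.Adj27
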