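import Groth.Agent.Lib.Adj27.Iso

/-!
# Closed immersions of smooth schemes are regular; the adjunction formula
-/

set_option autoImplicit false
set_option linter.style.haveILetI false
set_option backward.isDefEq.respectTransparency false

universe u

open CategoryTheory AlgebraicGeometry Opposite TopologicalSpace

namespace GrothLib.Adj27

variable {S X Y : Scheme.{u}} (p : X ⟶ S) (q : Y ⟶ S) (i : Y ⟶ X) [IsClosedImmersion i]
  [QuasiSeparated p] [QuasiSeparated q] (n m : ℕ) [SmoothOfRelativeDimension n p] [SmoothOfRelativeDimension m q]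
  (hi : i ≫ p = q)

include p q hi in
theorem isRegularImmersion :
    RegImm.IsRegularImmersionOfCodim RegImm.Kind.regular (n - m) i := by
  refine ⟨inferInstance, fun z => ?_⟩
  obtain ⟨c, V, f, g, hn, hzV, -, h⟩ := exists_isChart p q i n m hi z ⊤ trivial
  refine ⟨⟨V, h.aff⟩, hzV, inferInstance, List.ofFn f, by rw [List.length_ofFn]; omega, ?_, ?_⟩
  · refine ⟨h.fr.regular, fun htop => ?_⟩
    rw [smul_eq_mul, Ideal.mul_top] at htop
    have e : Ideal.ofList (List.ofFn f) = RingHom.ker (i.app V).hom := by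
      rw [h.fr.ker, Ideal.ofList]; congr 1; ext x; simp [List.mem_ofFn, Set.mem_range]
    have h1 : i.app V 1 = 0 := RingHom.mem_ker.1 (e ▸ htop ▸ Submodule.mem_top : (1 : Γ(X, V)) ∈ RingHom.ker (i.app V).hom)
    rw [map_one] at h1
    haveI : Nontrivial Γ(Y, i ⁻¹ᵁ V) := by
      haveI : Nonempty (i ⁻¹ᵁ V) := ⟨⟨z, hzV⟩⟩
      infer_instance
    exact one_ne_zero h1
  · rw [h.fr.ker, Ideal.ofList]; congr 1; ext x; simp [List.mem_ofFn, Set.mem_range]

include hi in
theorem adjunction (c : ℕ) (hc : n = c + m) {ωX : X.Modules} (hX : ExtPow.IsExtPow n (Omega.sheaf p) ωX)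
    {ωY : Y.Modules} (hY : ExtPow.IsExtPow m (Omega.sheaf q) ωY)
    {L : Y.Modules} (hL : ExtPow.IsExtPow c (Omega.conormal i) L) :
    Nonempty ((Scheme.Modules.pullback i).obj ωX ≅ CohB1.tensorMod ωY L) := by
  subst hc
  obtain ⟨φX, hφX⟩ := hX
  obtain ⟨φY, hφY⟩ := hY
  obtain ⟨φL, hφL⟩ := hL
  exact ⟨(nonempty_iso p q i φX φY φL hφX hφY hφL hi (c + m) rfl (isInvertible_omega p φX hφX (c + m) rfl)).some.symm⟩

end GrothLib.Adj27
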