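import Groth.Agent.Lib.LocProp.EtaleTower
import Groth.Agent.Lib.SmoothSection.Coords
import Groth.Agent.Lib.RegSeqLoc.Basic

/-!
# Coordinates of a smooth algebra adapted to a smooth quotient
-/

set_option autoImplicit false
set_option maxHeartbeats 800000
set_option linter.style.haveILetI false

universe u

open TensorProduct RingTheory.Sequence KaehlerDifferential Set

noncomputable section

namespace GrothLib.Adj27

variable {A B : Type u} [CommRing A] [CommRing B] [Algebra A B]

/-- Differentials forming a basis give an étale coordinate map. -/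
theorem etale_aeval_of_bijective [Algebra.FinitePresentation A B] [Algebra.FormallySmooth A B] {n : ℕ}
    (s : Fin n → B) (hb : Function.Bijective (Fintype.linearCombination B (fun i => D A B (s i)))) :
    letI : Algebra (MvPolynomial (Fin n) A) B := (MvPolynomial.aeval s).toRingHom.toAlgebra
    Algebra.Etale (MvPolynomial (Fin n) A) B := by
  letI : Algebra (MvPolynomial (Fin n) A) B := (MvPolynomial.aeval s).toRingHom.toAlgebra
  haveI : IsScalarTower A (MvPolynomial (Fin n) A) B :=
    IsScalarTower.of_algebraMap_eq' (MvPolynomial.aeval s).comp_algebraMap.symm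
  let b := Algebra.TensorProduct.basis B (KaehlerDifferential.mvPolynomialBasis A (Fin n))
  have hm : Function.Bijective (KaehlerDifferential.mapBaseChange A (MvPolynomial (Fin n) A) B) := by
    have : ⇑(Fintype.linearCombination B (fun i => D A B (s i))) =
        ⇑(KaehlerDifferential.mapBaseChange A (MvPolynomial (Fin n) A) B) ∘ ⇑b.equivFun.symm := by
      funext a
      rw [Function.comp_apply, Module.Basis.equivFun_symm_apply, Fintype.linearCombination_apply, map_sum]
      refine Finset.sum_congr rfl fun i _ => ?_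
      rw [map_smul]
      congr 1
      rw [Algebra.TensorProduct.basis_apply, KaehlerDifferential.mapBaseChange_tmul, one_smul,
        KaehlerDifferential.mvPolynomialBasis_apply, KaehlerDifferential.map_D]
      exact congrArg _ (MvPolynomial.aeval_X s i).symm
    rw [this] at hb
    exact (Function.Bijective.of_comp_iff _ b.equivFun.symm.bijective).1 hb
  haveI := (LocProp.formallyEtale_iff_bijective_mapBaseChange A (MvPolynomial (Fin n) A) B).2 hm
  haveI : Algebra.FinitePresentation (MvPolynomial (Fin n) A) B :=
    Algebra.FinitePresentation.of_restrict_scalars_finitePresentation A _ _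
  exact ⟨inferInstance, inferInstance⟩

/-- A standard smooth algebra has elements with differentials forming a basis. -/
theorem exists_bijective_coords (m : ℕ) (A C : Type u) [CommRing A] [CommRing C] [Algebra A C]
    [Algebra.IsStandardSmoothOfRelativeDimension m A C] :
    ∃ g : Fin m → C, Function.Bijective (Fintype.linearCombination C (fun i => D A C (g i))) := by
  obtain ⟨φ, hφ⟩ := Algebra.IsStandardSmoothOfRelativeDimension.exists_etale_mvPolynomial m A C
  letI : Algebra (MvPolynomial (Fin m) A) C := φ.toRingHom.toAlgebra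
  haveI : IsScalarTower A (MvPolynomial (Fin m) A) C := IsScalarTower.of_algebraMap_eq' φ.comp_algebraMap.symm
  haveI : Algebra.Etale (MvPolynomial (Fin m) A) C := hφ
  let b := (Algebra.TensorProduct.basis C (KaehlerDifferential.mvPolynomialBasis A (Fin m))).map
    (KaehlerDifferential.tensorKaehlerEquivOfFormallyEtale A (MvPolynomial (Fin m) A) C)
  refine ⟨fun i => φ (MvPolynomial.X i), ?_⟩
  have : ⇑(Fintype.linearCombination C (fun i => D A C (φ (MvPolynomial.X i)))) = ⇑b.equivFun.symm := by
    funext a
    rw [Module.Basis.equivFun_symm_apply, Fintype.linearCombination_apply]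
    refine Finset.sum_congr rfl fun i _ => ?_
    simp [b, Algebra.TensorProduct.basis_apply, RingHom.algebraMap_toAlgebra]
  rw [this]
  exact b.equivFun.symm.bijective

theorem exists_complement {κ W : Type u} [Field κ] [AddCommGroup W] [Module κ W] [Module.Finite κ W] {m : ℕ}
    (v : Fin m → W) (hv : LinearIndependent κ v) (T : Set W) (hT : Submodule.span κ (range v ∪ T) = ⊤) :
    ∃ (c : ℕ) (w : Fin c → W), (∀ i, w i ∈ T) ∧ c + m = Module.finrank κ W ∧
      Submodule.span κ (range (Fin.append w v)) = ⊤ := by
  classical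
  let V := Submodule.span κ (range v)
  have hq : Submodule.span κ (V.mkQ '' T) = ⊤ := by
    have := congrArg (Submodule.map V.mkQ) hT
    rw [Submodule.map_top, Submodule.range_mkQ, Submodule.map_span, image_union, Submodule.span_union] at this
    rw [show Submodule.span κ (V.mkQ '' range v) = ⊥ from Submodule.span_eq_bot.2 (by
      rintro _ ⟨_, ⟨j, rfl⟩, rfl⟩
      exact (Submodule.Quotient.mk_eq_zero V).2 (Submodule.subset_span ⟨j, rfl⟩)), bot_sup_eq] at this
    exact this
  obtain ⟨b, hbT, hbs, hbi⟩ := exists_linearIndependent κ (V.mkQ '' T)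
  have hbtop : Submodule.span κ b = ⊤ := hbs.trans hq
  let e : Module.Basis b κ (W ⧸ V) := Module.Basis.mk hbi (by rw [Subtype.range_coe, hbtop])
  haveI : Finite b := Module.Finite.finite_basis e
  haveI : Fintype b := Fintype.ofFinite b
  choose w hw hwb using fun i : b => hbT i.2
  let c := Fintype.card b
  let σ := (Fintype.equivFin b).symm
  refine ⟨c, fun i => w (σ i), fun i => hw _, ?_, ?_⟩
  · have h1 := Submodule.finrank_quotient_add_finrank V
    rw [Module.finrank_eq_card_basis e, finrank_span_eq_card hv, Fintype.card_fin] at h1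
    exact h1
  · refine eq_top_iff.2 fun x _ => ?_
    have hle : V ≤ Submodule.span κ (range (Fin.append (fun i => w (σ i)) v)) :=
      Submodule.span_le.2 (by rintro _ ⟨j, rfl⟩; exact Submodule.subset_span ⟨Fin.natAdd c j, Fin.append_right _ _ j⟩)
    have hx : V.mkQ x ∈ Submodule.map V.mkQ (Submodule.span κ (range (Fin.append (fun i => w (σ i)) v))) := by
      have : Submodule.span κ b ≤ Submodule.map V.mkQ (Submodule.span κ (range (Fin.append (fun i => w (σ i)) v))) := by
        refine Submodule.span_le.2 fun z hz => ?_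
        refine ⟨w ⟨z, hz⟩, Submodule.subset_span ⟨Fin.castAdd m (σ.symm ⟨z, hz⟩),
          (Fin.append_left _ _ _).trans (congrArg w (σ.apply_symm_apply _))⟩, ?_⟩
        exact hwb ⟨z, hz⟩
      rw [hbtop] at this
      exact this trivial
    obtain ⟨y, hy, hyx⟩ := hx
    have h2 : x - y ∈ V := (Submodule.Quotient.eq V).1 hyx.symm
    rw [← sub_add_cancel x y]
    exact add_mem (hle h2) hy

variable {C : Type u} [CommRing C] [Algebra A C] [Algebra B C] [IsScalarTower A B C]

/-- Coordinates adapted to a smooth quotient. -/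
theorem exists_chart {n m : ℕ} [Algebra.IsStandardSmoothOfRelativeDimension n A B] [Algebra.FormallySmooth A C]
    [Algebra.FinitePresentation A C] (hτ : Function.Surjective (algebraMap B C)) (g : Fin m → B)
    (hg : Function.Bijective (Fintype.linearCombination C (fun i => D A C (algebraMap B C (g i)))))
    (q : Ideal B) [q.IsPrime] (hq : RingHom.ker (algebraMap B C) ≤ q) :
    ∃ (c : ℕ) (f : Fin c → B) (h : B), n = c + m ∧ h ∉ q ∧ (∀ i, algebraMap B C (f i) = 0) ∧
      ∀ (S : Type u) [CommRing S] [Algebra B S] [Algebra A S] [IsScalarTower A B S] [IsLocalization.Away h S],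
        IsWeaklyRegular S (List.ofFn (algebraMap B S ∘ f)) ∧
        Function.Bijective (Fintype.linearCombination S (fun i => D A S (algebraMap B S (Fin.append f g i)))) ∧
        (RingHom.ker (algebraMap B C)).map (algebraMap B S) ≤ Ideal.span (range (algebraMap B S ∘ f)) := by
  classical
  haveI : Algebra.IsStandardSmooth A B := Algebra.IsStandardSmoothOfRelativeDimension.isStandardSmooth n
  haveI : Nontrivial B := nontrivial_of_ne 0 1 fun h => ‹q.IsPrime›.ne_top ((Ideal.eq_top_iff_one q).2 (h ▸ q.zero_mem))
  let J := RingHom.ker (algebraMap B C)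
  have hrank := Algebra.IsStandardSmoothOfRelativeDimension.rank_kaehlerDifferential (R := A) (S := B) n
  have hfr : Module.finrank B (Ω[B⁄A]) = n := Module.finrank_eq_of_rank_eq hrank
  let e : Module.Basis (Fin n) B (Ω[B⁄A]) := Module.finBasisOfFinrankEq B _ hfr
  let bC : Module.Basis (Fin m) C (Ω[C⁄A]) := Module.Basis.ofEquivFun (LinearEquiv.ofBijective _ hg).symm
  let π : Ω[B⁄A] →ₗ[B] (Fin m → C) :=
    (bC.equivFun.toLinearMap.restrictScalars B) ∘ₗ KaehlerDifferential.map A A B C
  obtain ⟨Λ, hΛ⟩ := Module.projective_lifting_property ((Algebra.linearMap B C).compLeft (Fin m)) π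
    (fun y => ⟨fun i => (hτ (y i)).choose, funext fun i => (hτ (y i)).choose_spec⟩)
  have hΛ' : ∀ y i, algebraMap B C (Λ y i) = π y i := fun y i => congrFun (LinearMap.congr_fun hΛ y) i
  have hπg : ∀ j, π (D A B (g j)) = Pi.single j 1 := fun j => by
    show bC.equivFun (KaehlerDifferential.map A A B C (D A B (g j))) = _
    rw [KaehlerDifferential.map_D, show bC.equivFun = (LinearEquiv.ofBijective _ hg).symm from
      Module.Basis.equivFun_ofEquivFun _, LinearEquiv.symm_apply_eq, LinearEquiv.ofBijective_apply,
      Fintype.linearCombination_apply_single, one_smul]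
  have hπJ : ∀ x ∈ J, π (D A B x) = 0 := fun x hx => by
    show bC.equivFun (KaehlerDifferential.map A A B C (D A B x)) = _
    rw [KaehlerDifferential.map_D, RingHom.mem_ker.1 hx, map_zero, map_zero]
  have hdec : ∀ y, ∃ x ∈ J, ∀ i, e.repr (y - ∑ j, Λ y j • D A B (g j)) i - e.repr (D A B x) i ∈ J := by
    intro y
    have h1 : π (y - ∑ j, Λ y j • D A B (g j)) = 0 := by
      funext k
      simp [map_sub, map_sum, hπg, Finset.sum_apply, Pi.single_apply, Algebra.smul_def]
      simp [hΛ']
    have h2 : KaehlerDifferential.mapBaseChange A B C (1 ⊗ₜ (y - ∑ j, Λ y j • D A B (g j))) = 0 := by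
      rw [KaehlerDifferential.mapBaseChange_tmul, one_smul]
      exact bC.equivFun.injective (h1.trans (map_zero _).symm)
    obtain ⟨z, hz⟩ := (exact_kerCotangentToTensor_mapBaseChange A B C hτ _).1 h2
    obtain ⟨x, rfl⟩ := Ideal.toCotangent_surjective _ z
    refine ⟨x.1, x.2, fun i => ?_⟩
    rw [kerCotangentToTensor_toCotangent] at hz
    have := congrArg (fun w => (Algebra.TensorProduct.basis C e).repr w i) hz
    simp only [Algebra.TensorProduct.basis_repr_tmul] at this
    simp only [Finsupp.smul_apply, Finsupp.mapRange_apply, smul_eq_mul, one_mul] at this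
    rw [RingHom.mem_ker, map_sub, this, sub_self]
  -- the fibre
  let κ := q.ResidueField
  let ψ : B →+* κ := algebraMap B κ
  have hψ : ∀ x ∈ J, ψ x = 0 := fun x hx => Ideal.algebraMap_residueField_eq_zero.2 (hq hx)
  let u : Ω[B⁄A] →ₗ[B] (Fin n → κ) := ((Algebra.linearMap B κ).compLeft (Fin n)) ∘ₗ e.equivFun.toLinearMap
  have hu : ∀ y i, u y i = ψ (e.repr y i) := fun y i => rfl
  let Λk : (Fin n → κ) →ₗ[κ] (Fin m → κ) :=
    Fintype.linearCombination κ (fun i k => ψ (Λ (e i) k))
  have hΛk : ∀ y k, Λk (u y) k = ψ (Λ y k) := fun y k => by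
    conv_rhs => rw [← e.sum_repr y, map_sum, Finset.sum_apply, map_sum]
    simp [Λk, Fintype.linearCombination_apply, Finset.sum_apply, hu]
  let v : Fin m → (Fin n → κ) := fun j => u (D A B (g j))
  have hv : LinearIndependent κ v := by
    refine LinearIndependent.of_comp Λk ?_
    have : Λk ∘ v = Pi.basisFun κ (Fin m) := funext fun j => funext fun k => by
      have h : Λ (D A B (g j)) k - (Pi.single j (1 : B) : Fin m → B) k ∈ J := by
        rw [RingHom.mem_ker, map_sub, hΛ', hπg]
        simp only [Pi.single_apply]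
        split_ifs <;> simp
      have h' := hψ _ h
      rw [map_sub, sub_eq_zero] at h'
      show Λk (u _) k = _
      rw [hΛk, h']
      simp only [Pi.basisFun_apply, Pi.single_apply]
      split_ifs <;> simp
    rw [this]
    exact (Pi.basisFun κ (Fin m)).linearIndependent
  let T : Set (Fin n → κ) := (fun x => u (D A B x)) '' J
  have hT : Submodule.span κ (range v ∪ T) = ⊤ := by
    rw [eq_top_iff, ← (Pi.basisFun κ (Fin n)).span_eq, Submodule.span_le]
    rintro _ ⟨i, rfl⟩
    obtain ⟨x, hx, hx'⟩ := hdec (e i)
    have : Pi.basisFun κ (Fin n) i = (∑ j, ψ (Λ (e i) j) • v j) + u (D A B x) := by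
      funext k
      have := hψ _ (hx' k)
      simp only [map_sub, map_sum, map_smul, Finsupp.sub_apply, Finsupp.finset_sum_apply, Finsupp.smul_apply,
        smul_eq_mul, map_mul, sub_eq_zero] at this
      simp only [Pi.add_apply, Finset.sum_apply, Pi.smul_apply, smul_eq_mul, v, hu, ← this, Pi.basisFun_apply]
      simp [Finsupp.single_apply, Pi.single_apply, eq_comm, apply_ite ψ]
    rw [this]
    exact add_mem (Submodule.sum_mem _ fun j _ => Submodule.smul_mem _ _ (Submodule.subset_span (Or.inl ⟨j, rfl⟩)))
      (Submodule.subset_span (Or.inr ⟨x, hx, rfl⟩))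
  obtain ⟨c, w, hw, hc, hspan⟩ := exists_complement v hv T hT
  obtain rfl : n = c + m := by rw [hc, Module.finrank_fintype_fun_eq_card, Fintype.card_fin]
  choose f hf hfw using hw
  let s := Fin.append f g
  let P := e.toMatrix (fun k => D A B (s k))
  have hP : ψ P.det ≠ 0 := by
    have hvs : (fun k => u (D A B (s k))) = Fin.append w v := by
      funext k
      refine Fin.addCases (fun i => ?_) (fun j => ?_) k
      · simp [s, hfw]
      · simp [s, v]
    have hspan' : Submodule.span κ (range fun k => u (D A B (s k))) = ⊤ := by rw [hvs]; exact hspan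
    have hli := linearIndependent_of_top_le_span_of_card_eq_finrank hspan'.ge
      (by rw [Module.finrank_fintype_fun_eq_card])
    have hd := ((Pi.basisFun κ (Fin (c + m))).is_basis_iff_det).1 ⟨hli, hspan'⟩
    rw [Module.Basis.det_apply] at hd
    have h4 : P.map ψ = (Pi.basisFun κ (Fin (c + m))).toMatrix (fun k => u (D A B (s k))) := by
      ext i k
      rw [Matrix.map_apply, Module.Basis.toMatrix_apply, Pi.basisFun_repr, hu]
      rfl
    rw [RingHom.map_det, RingHom.mapMatrix_apply, h4]
    exact hd.ne_zero
  have hmul : ∀ y, ∃ a : Fin (c + m) → B, P.det • y = ∑ k, a k • D A B (s k) := fun y => by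
    refine ⟨P.adjugate.mulVec (e.repr y), e.equivFun.injective ?_⟩
    have h0 : P.mulVec (P.adjugate.mulVec (e.repr y)) = P.det • ⇑(e.repr y) := by
      rw [Matrix.mulVec_mulVec, Matrix.mul_adjugate, Matrix.smul_mulVec, Matrix.one_mulVec]
    funext i
    rw [map_smul, map_sum, Finset.sum_apply, Module.Basis.equivFun_apply]
    refine (congrFun h0 i).symm.trans ?_
    simp [Matrix.mulVec, dotProduct, P, Module.Basis.toMatrix_apply, mul_comm]
  have hinj : Function.Injective (kerCotangentToTensor A B C) := by
    obtain ⟨l, hl⟩ := (Algebra.FormallySmooth.iff_split_injection hτ).1 ‹Algebra.FormallySmooth A C›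
    exact Function.HasLeftInverse.injective ⟨l, LinearMap.congr_fun hl⟩
  have hgen : ∀ x ∈ J, P.det * x ∈ Ideal.span (range f) ⊔ J * J := fun x hx => by
    obtain ⟨a, ha⟩ := hmul (D A B x)
    rw [Fin.sum_univ_add] at ha
    simp only [s, Fin.append_left, Fin.append_right] at ha
    have hag : ∀ j, algebraMap B C (a (Fin.natAdd c j)) = 0 := fun j => by
      have := congrArg (fun z => π z j) ha
      simp only [map_smul, map_add, map_sum, hπJ x hx, hπg, fun i => hπJ _ (hf i)] at this
      simpa [Finset.sum_apply, Pi.single_apply, Algebra.smul_def] using this.symm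
    have h1 : (1 : C) ⊗ₜ[B] D A B (P.det * x - ∑ i, a (Fin.castAdd m i) * f i) = 0 := by
      have hx0 : ∀ y ∈ J, ∀ z : Ω[B⁄A], (1 : C) ⊗ₜ[B] (y • z) = 0 := fun y hy z => by
        rw [← TensorProduct.smul_tmul, Algebra.smul_def, RingHom.mem_ker.1 hy, zero_mul, TensorProduct.zero_tmul]
      simp only [map_sub, map_sum, Derivation.leibniz, TensorProduct.tmul_sub, TensorProduct.tmul_sum,
        TensorProduct.tmul_add, hx0 _ hx, fun i => hx0 _ (hf i), add_zero, ha]
      rw [Finset.sum_congr rfl (fun j _ => hx0 _ (hag j) _) (s₂ := Finset.univ) (g := fun _ : Fin m => (0 : C ⊗[B] Ω[B⁄A])),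
        Finset.sum_const_zero, add_zero, sub_self]
    have hmem : P.det * x - ∑ i, a (Fin.castAdd m i) * f i ∈ J :=
      sub_mem (Ideal.mul_mem_left _ _ hx) (Ideal.sum_mem _ fun i _ => Ideal.mul_mem_left _ _ (hf i))
    have h2 : J.toCotangent ⟨_, hmem⟩ = 0 :=
      hinj (((kerCotangentToTensor_toCotangent A B C ⟨_, hmem⟩).trans h1).trans (map_zero _).symm)
    rw [Ideal.toCotangent_eq_zero, pow_two] at h2
    rw [← sub_add_cancel (P.det * x) (∑ i, a (Fin.castAdd m i) * f i)]
    exact add_mem (Ideal.mem_sup_right h2)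
      (Ideal.mem_sup_left (Ideal.sum_mem _ fun i _ => Ideal.mul_mem_left _ _ (Ideal.subset_span ⟨i, rfl⟩)))
  have hdet : P.det ∉ q := fun hh => hP (Ideal.algebraMap_residueField_eq_zero.2 hh)
  have hfg : J.FG := Algebra.FinitePresentation.ker_fG_of_surjective (IsScalarTower.toAlgHom A B C) hτ
  let Bq := Localization.AtPrime q
  have hloc : J.map (algebraMap B Bq) ≤ (Ideal.span (range f)).map (algebraMap B Bq) := by
    refine Submodule.le_of_le_smul_of_le_jacobson_bot (I := J.map (algebraMap B Bq)) (hfg.map _) ?_ ?_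
    · rw [IsLocalRing.jacobson_eq_maximalIdeal ⊥ bot_ne_top, ← Localization.AtPrime.map_eq_maximalIdeal]
      exact Ideal.map_mono hq
    · rw [Ideal.map_le_iff_le_comap]
      intro x hx
      have := Ideal.mem_map_of_mem (algebraMap B Bq) (hgen x hx)
      rw [Ideal.map_sup, Ideal.map_mul, map_mul] at this
      exact (Ideal.unit_mul_mem_iff_mem _ (IsLocalization.map_units Bq (⟨P.det, hdet⟩ : q.primeCompl))).1 this
  obtain ⟨G, hG⟩ := hfg
  have hx : ∀ x : G, ∃ t ∈ q.primeCompl, t * x.1 ∈ Ideal.span (range f) := fun x =>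
    (IsLocalization.algebraMap_mem_map_algebraMap_iff q.primeCompl Bq _ _).1
      (hloc (Ideal.mem_map_of_mem _ (show x.1 ∈ J from hG ▸ Submodule.subset_span x.2)))
  choose t ht htx using hx
  refine ⟨c, f, P.det * ∏ x, t x, rfl, q.primeCompl.mul_mem hdet (q.primeCompl.prod_mem fun x _ => ht x), hf,
    fun S _ _ _ _ _ => ?_⟩
  have hu' : IsUnit (algebraMap B S P.det) ∧ ∀ x, IsUnit (algebraMap B S (t x)) := by
    have := IsLocalization.Away.algebraMap_isUnit (S := S) (P.det * ∏ x, t x)
    rw [map_mul, IsUnit.mul_iff, map_prod] at this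
    exact ⟨this.1, fun x => (IsUnit.prod_iff.1 this.2) x (Finset.mem_univ x)⟩
  let M := Submonoid.powers (P.det * ∏ x, t x)
  let ν := KaehlerDifferential.map A A B S
  let e' := e.ofIsLocalizedModule S M ν
  have hrepr : e'.toMatrix (fun k => D A S (algebraMap B S (s k))) = P.map (algebraMap B S) := by
    ext i k
    rw [Module.Basis.toMatrix_apply, Matrix.map_apply, ← KaehlerDifferential.map_D (R := A) (S := A)]
    exact Module.Basis.ofIsLocalizedModule_repr_apply S M ν e _ i
  have hbasis := (e'.is_basis_iff_det (v := fun k => D A S (algebraMap B S (s k)))).2 (by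
    rw [Module.Basis.det_apply, hrepr, ← RingHom.mapMatrix_apply, ← RingHom.map_det]
    exact hu'.1)
  have hbij : Function.Bijective (Fintype.linearCombination S (fun k => D A S (algebraMap B S (s k)))) := by
    refine ⟨LinearMap.ker_eq_bot.1 ?_, LinearMap.range_eq_top.1 ?_⟩
    · exact LinearMap.ker_eq_bot.2 (linearIndependent_iff_injective_fintypeLinearCombination.1 hbasis.1)
    · rw [Fintype.range_linearCombination, hbasis.2]
  refine ⟨?_, hbij, ?_⟩
  · haveI : Algebra.FinitePresentation B S := IsLocalization.Away.finitePresentation (P.det * ∏ x, t x)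
    haveI : Algebra.FinitePresentation A S := Algebra.FinitePresentation.trans A B S
    haveI : Algebra.FormallySmooth B S := Algebra.FormallySmooth.of_isLocalization (Rₘ := S) M
    haveI : Algebra.FormallySmooth A S := Algebra.FormallySmooth.comp A B S
    letI : Algebra (MvPolynomial (Fin (c + m)) A) S :=
      (MvPolynomial.aeval (fun k => algebraMap B S (s k))).toRingHom.toAlgebra
    haveI : Algebra.Etale (MvPolynomial (Fin (c + m)) A) S := etale_aeval_of_bijective _ hbij
    have h := (GrothLib.FibreFlat.isWeaklyRegular_X A (c + m)).of_flat (S := S)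
    rw [List.map_ofFn, show (algebraMap (MvPolynomial (Fin (c + m)) A) S) ∘ MvPolynomial.X =
      Fin.append (algebraMap B S ∘ f) (algebraMap B S ∘ g) from funext fun k => by
        refine (MvPolynomial.aeval_X _ k).trans ?_
        refine Fin.addCases (fun i => ?_) (fun j => ?_) k <;> simp [s], List.ofFn_fin_append,
      isWeaklyRegular_append_iff] at h
    exact h.1
  · rw [show RingHom.ker (algebraMap B C) = Ideal.span (G : Set B) from hG.symm, Ideal.map_span, Ideal.span_le]
    rintro _ ⟨x, hx, rfl⟩
    have := Ideal.mem_map_of_mem (algebraMap B S) (htx ⟨x, hx⟩)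
    rw [map_mul, Ideal.map_span, ← range_comp] at this
    exact (Ideal.unit_mul_mem_iff_mem _ (hu'.2 ⟨x, hx⟩)).1 this

end GrothLib.Adj27
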