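import Groth.Agent.Lib.Adj27.Main
import Groth.Agent.Lib.FundIso27.Iso
import Groth.Agent.Lib.ExtPowX.Basic
import Groth.Agent.Lib.Euler.Coh
import Mathlib.AlgebraicGeometry.Morphisms.QuasiSeparated

/-!
# The Ext description of top forms of a smooth closed subscheme
-/

set_option autoImplicit false
set_option linter.style.haveILetI false
set_option backward.isDefEq.respectTransparency false

universe u

open CategoryTheory CategoryTheory.Limits AlgebraicGeometry Opposite TopologicalSpace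
open GrothLib.FinCov (IsFrame)

noncomputable section

namespace GrothLib.Adj27

theorem isFinLocFree_of_frames {X : Scheme.{u}} {M : X.Modules}
    (h : ∀ x : X, ∃ (V : X.Opens) (n : ℕ) (e : Fin n → Γ(M, V)), x ∈ V ∧ IsFrame M V e) : FlatMod.IsFinLocFree M :=
  fun x => by
    obtain ⟨V, n, e, hx, he⟩ := h x
    exact ⟨V, n, hx, FinCov.exists_iso_of_frame he⟩

theorem isFinLocFree_conormal {P X : Scheme.{u}} (ι' : X ⟶ P) [IsClosedImmersion ι'] [IsLocallyNoetherian P] {r : ℕ}
    (hι : RegImm.IsRegularImmersionOfCodim RegImm.Kind.regular r ι') : FlatMod.IsFinLocFree (Omega.conormal ι') := by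
  refine isFinLocFree_of_frames fun z => ?_
  obtain ⟨W, hzW, -, f, hf⟩ := FundIso27.exists_frame_nhd ι' hι z ⊤ trivial
  haveI := H1Sheaf6.isQuasicoherent_idealMod ι'.ker
  haveI : (Omega.conormal ι').IsQuasicoherent := FittSheaf.isQuasicoherent_pullback ι' _
  refine ⟨ι' ⁻¹ᵁ W.1, r, FundIso27.cn W.2 hf, hzW, isFrame_of_affine _ (W.2.preimage ι') _ ?_⟩
  have := FundIso27.bijective_cn W.2 hf ⟨_, W.2.preimage ι'⟩ le_rfl
  convert this using 1
  funext a
  rw [Fintype.linearCombination_apply]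
  exact Finset.sum_congr rfl fun i _ => congrArg (a i • ·) (InvExt.mres_self _ _).symm

theorem isFinLocFree_omega {S X : Scheme.{u}} (p : X ⟶ S) [QuasiSeparated p] (n : ℕ) [SmoothOfRelativeDimension n p] :
    FlatMod.IsFinLocFree (Omega.sheaf p) := by
  refine isFinLocFree_of_frames fun x => ?_
  obtain ⟨U, hU, T, hT, hxT, e, h⟩ :=
    SmoothOfRelativeDimension.exists_isStandardSmoothOfRelativeDimension (n := n) (f := p) x
  letI := (p.appLE U T e).hom.toAlgebra
  haveI : Algebra.IsStandardSmoothOfRelativeDimension n Γ(S, U) Γ(X, T) := h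
  obtain ⟨s, hs⟩ := exists_bijective_coords n Γ(S, U) Γ(X, T)
  exact ⟨T, n, _, hxT, isFrame_dd p hT hU e s hs⟩

theorem nonempty_iso_of_isEmpty {X : Scheme.{u}} [IsEmpty X] (A B : X.Modules) : Nonempty (A ≅ B) := by
  have hz : ∀ M : X.Modules, ∀ U : X.Opens, Subsingleton Γ(M, U) := fun M U => by
    obtain rfl : U = ⊥ := le_bot_iff.1 fun x _ => isEmptyElim x
    exact Cohom.subsingleton_sections_bot (Coh.toAb M)
  obtain ⟨e, -⟩ := AffHom.exists_iso (M := A) (N := B)
    (fun U => haveI := hz A U.1; haveI := hz B U.1; 0)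
    (fun U V h m => @Subsingleton.elim _ (hz B V.1) _ _)
  exact ⟨e⟩

theorem main (S P X : Scheme.{u}) [IsLocallyNoetherian S]
    (g : P ⟶ S) (f : X ⟶ S) (ι' : X ⟶ P) [IsClosedImmersion ι'] (hι : ι' ≫ g = f) (n r : ℕ)
    [SmoothOfRelativeDimension n g] [SmoothOfRelativeDimension r f]
    (ΩP : P.Modules) (hΩP : ExtPow.IsExtPow n (Omega.sheaf g) ΩP)
    (ΩX : X.Modules) (hΩX : ExtPow.IsExtPow r (Omega.sheaf f) ΩX)
    [ModSite.HasSheafHom (O := P.sheaf) (FundIso27.OZ ι')] [HasInjectiveResolutions P.Modules] :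
    Nonempty ((Scheme.Modules.pushforward ι').obj ΩX ≅ FundIso27.eSh ι' ΩP (n - r)) := by
  haveI : Smooth g := SmoothOfRelativeDimension.smooth n g
  haveI : IsLocallyNoetherian P := LocallyOfFiniteType.isLocallyNoetherian g
  haveI : IsLocallyNoetherian X := LocallyOfFiniteType.isLocallyNoetherian ι'
  haveI : QuasiSeparated g := inferInstance
  haveI : QuasiSeparated f := inferInstance
  have hreg := isRegularImmersion g f ι' n r hι
  obtain ⟨L, -, hL⟩ := ExtPowX.exists_extPow (isFinLocFree_conormal ι' hreg) (n - r)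
  haveI : ΩP.IsQuasicoherent := Euler.isQuasicoherent_of_isFinLocFree
    (ExtPowX.isFinLocFree_extPow (isFinLocFree_omega g n) hΩP)
  haveI := SheafCoh.hasSheafHom X.sheaf L
  obtain ⟨φ, hφ⟩ := hL
  obtain ⟨e⟩ := FundIso27.nonempty_eSh_iso ι' ΩP φ hφ hreg
  by_cases h : r ≤ n
  · obtain ⟨a⟩ := adjunction g f ι' n r hι (n - r) (by omega) hΩP hΩX ⟨φ, hφ⟩
    obtain ⟨d⟩ := FundIso27.nonempty_sheafHom_tensor_iso (FundIso27.isInvertible_L ι' φ hφ hreg) ΩX
    exact ⟨(Scheme.Modules.pushforward ι').mapIso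
      (d.symm ≪≫ ((ModSite.sheafHom (O := X.sheaf) L).mapIso a).symm) ≪≫ e.symm⟩
  · haveI : IsEmpty X := ⟨fun z => by
      obtain ⟨c, V, f', g', hn, -⟩ := exists_isChart g f ι' n r hι z ⊤ trivial
      omega⟩
    exact ⟨(Scheme.Modules.pushforward ι').mapIso (nonempty_iso_of_isEmpty _ _).some ≪≫ e.symm⟩

end GrothLib.Adj27
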