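import Groth.Agent.Lib.Adj27.Main
import Groth.Agent.Lib.GenericSmooth.Basic
import Groth.Agent.Lib.DimCut.Product
import Mathlib.FieldTheory.IsAlgClosed.Basic

/-!
# The adjunction formula for nonsingular varieties
-/

set_option autoImplicit false
set_option linter.style.haveILetI false
set_option backward.isDefEq.respectTransparency false

universe u

open CategoryTheory AlgebraicGeometry Opposite TopologicalSpace

namespace GrothLib.Adj27

theorem smooth_of_regular {k : Type u} [Field k] [PerfectField k] {X : Scheme.{u}} (f : X ⟶ Spec (CommRingCat.of k))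
    [LocallyOfFiniteType f] (hreg : ∀ x : X, IsRegularLocalRing (X.presheaf.stalk x)) : Smooth f := by
  haveI : IsLocallyNoetherian (Spec (CommRingCat.of k)) := inferInstance
  haveI : LocallyOfFinitePresentation f := inferInstance
  rw [← Scheme.Hom.smoothLocus_eq_top_iff, eq_top_iff]
  intro x _
  haveI := hreg x
  let p : Spec (CommRingCat.of k) := f x
  have hp : p.asIdeal = ⊥ := (Ideal.eq_bot_or_top p.asIdeal).resolve_right p.isPrime.ne_top
  let φ : k →+* (Spec (CommRingCat.of k)).presheaf.stalk p :=
    ((Scheme.ΓSpecIso (CommRingCat.of k)).inv ≫ (Spec (CommRingCat.of k)).presheaf.germ ⊤ p trivial).hom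
  have hφ : Function.Bijective φ := by
    refine ⟨φ.injective, fun y => ?_⟩
    obtain ⟨⟨a, s⟩, h⟩ := IsLocalization.surj (M := p.asIdeal.primeCompl)
      (S := (Spec.structureSheaf k).presheaf.stalk p) y
    have hs : (s : k) ≠ 0 := fun h0 => s.2 (h0 ▸ p.asIdeal.zero_mem)
    refine ⟨(a : k) / (s : k), ?_⟩
    have h' : y * φ (s : k) = φ (a : k) := h
    refine ((((IsUnit.mk0 (s : k) hs).map φ).mul_left_inj).1 ?_)
    rw [h', ← map_mul]
    exact congrArg φ (div_mul_cancel₀ (a : k) hs)
  let e := RingEquiv.ofBijective φ hφ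
  have hfld : IsField ((Spec (CommRingCat.of k)).presheaf.stalk p) :=
    MulEquiv.isField (Field.toIsField k) e.symm.toMulEquiv
  refine GenericSmooth.mem_smoothLocus_of_regular f x hfld ?_
  letI := hfld.toField
  exact PerfectField.of_ringEquiv e

theorem smoothOfRelativeDimension_of_regular {k : Type u} [Field k] [IsAlgClosed k] {X : Scheme.{u}} [IsIntegral X]
    (f : X ⟶ Spec (CommRingCat.of k)) [LocallyOfFiniteType f]
    (hreg : ∀ x : X, IsRegularLocalRing (X.presheaf.stalk x)) (n : ℕ) (hn : topologicalKrullDim X = n) :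
    SmoothOfRelativeDimension n f :=
  haveI := smooth_of_regular f hreg
  DimCut.smoothOfRelativeDimension f n hn

end GrothLib.Adj27
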